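import Groth.Agent.H68.NormBC.Res

/-!
# Extension of scalars of a polynomial law
-/

set_option autoImplicit false
universe u

open scoped TensorProduct

namespace Groth.Agent.H68.NB

variable {R : Type u} [CommRing R] {Q : Type u} [CommRing Q] [Algebra R Q]
  {X : Type u} [AddCommGroup X] [Module R X]
  {Y : Type u} [AddCommGroup Y] [Module R Y] [Module Q Y] [IsScalarTower R Q Y]
  {E : Type u} [AddCommGroup E] [Module R E] [Module Q E] [IsScalarTower R Q E]
  {j : X →ₗ[R] Y} (hj : IsBaseChange Q j)

section maps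

variable (P : Type u) [CommSemiring P] [Algebra R P] [Algebra Q P] [IsScalarTower R Q P]

/-- `P ⊗[R] X ≃ P ⊗[Q] Y`, `p ⊗ x ↦ p ⊗ j x`. -/
noncomputable def cEquiv : P ⊗[R] X ≃ₗ[Q] P ⊗[Q] Y :=
  (TensorProduct.AlgebraTensorModule.cancelBaseChange R Q Q P X).symm ≪≫ₗ
    (TensorProduct.congr (LinearEquiv.refl Q P) hj.equiv)

@[simp]
theorem cEquiv_tmul (p : P) (x : X) : cEquiv hj P (p ⊗ₜ[R] x) = p ⊗ₜ[Q] j x := by
  simp [cEquiv, IsBaseChange.equiv_tmul]

variable (E)

/-- The canonical surjection `P ⊗[R] E → P ⊗[Q] E`. -/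
noncomputable def dMap : P ⊗[R] E →ₗ[Q] P ⊗[Q] E :=
  TensorProduct.mapOfCompatibleSMul Q R Q P E

@[simp]
theorem dMap_tmul (p : P) (e : E) : dMap (Q := Q) E P (p ⊗ₜ[R] e) = p ⊗ₜ[Q] e := by
  simp [dMap]

end maps

section nat

variable {P P' : Type u} [CommSemiring P] [Algebra R P] [Algebra Q P] [IsScalarTower R Q P]
  [CommSemiring P'] [Algebra R P'] [Algebra Q P'] [IsScalarTower R Q P'] (φ : P →ₐ[Q] P')

theorem cEquiv_nat (z : P ⊗[R] X) :
    cEquiv hj P' ((φ.restrictScalars R).toLinearMap.rTensor X z) =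
      φ.toLinearMap.rTensor Y (cEquiv hj P z) := by
  induction z using TensorProduct.induction_on with
  | zero => simp
  | tmul p x => simp
  | add z z' hz hz' => simp only [map_add, hz, hz']

theorem cEquiv_symm_nat (y : P ⊗[Q] Y) :
    (cEquiv hj P').symm (φ.toLinearMap.rTensor Y y) =
      (φ.restrictScalars R).toLinearMap.rTensor X ((cEquiv hj P).symm y) := by
  rw [LinearEquiv.symm_apply_eq, cEquiv_nat, LinearEquiv.apply_symm_apply]

variable (E)

theorem dMap_nat (w : P ⊗[R] E) :
    dMap (Q := Q) E P' ((φ.restrictScalars R).toLinearMap.rTensor E w) =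
      φ.toLinearMap.rTensor E (dMap (Q := Q) E P w) := by
  induction w using TensorProduct.induction_on with
  | zero => simp
  | tmul p e => simp
  | add z z' hz hz' => simp only [map_add, hz, hz']

end nat

section extfun

/-- The function underlying the extension of scalars of a law, on a `Q`-algebra `P` with a
compatible `R`-algebra structure. -/
noncomputable def extFun (lam : X →ₚₗ[R] E) (P : Type u) [CommSemiring P] [Algebra R P]
    [Algebra Q P] [IsScalarTower R Q P] : P ⊗[Q] Y → P ⊗[Q] E :=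
  fun y => dMap (Q := Q) E P (lam.toFun' P ((cEquiv hj P).symm y))

theorem extFun_nat (lam : X →ₚₗ[R] E) {P P' : Type u} [CommSemiring P] [Algebra R P]
    [Algebra Q P] [IsScalarTower R Q P] [CommSemiring P'] [Algebra R P'] [Algebra Q P']
    [IsScalarTower R Q P'] (φ : P →ₐ[Q] P') (y : P ⊗[Q] Y) :
    φ.toLinearMap.rTensor E (extFun hj lam P y) =
      extFun hj lam P' (φ.toLinearMap.rTensor Y y) := by
  unfold extFun
  rw [cEquiv_symm_nat, ← PolynomialLaw.isCompat_apply', dMap_nat]

/-- Extension of scalars of a polynomial law over `R` on `X`, with values in a `Q`-module, to a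
polynomial law over `Q` on `Y = Q ⊗ X`. -/
noncomputable def Ext (lam : X →ₚₗ[R] E) : Y →ₚₗ[Q] E where
  toFun' P _ _ :=
    letI : Algebra R P := Algebra.compHom P (algebraMap R Q)
    haveI : IsScalarTower R Q P := IsScalarTower.of_algebraMap_eq (fun _ => rfl)
    extFun hj lam P
  isCompat' {P} _ _ {P'} _ _ φ := by
    letI : Algebra R P := Algebra.compHom P (algebraMap R Q)
    haveI : IsScalarTower R Q P := IsScalarTower.of_algebraMap_eq (fun _ => rfl)
    letI : Algebra R P' := Algebra.compHom P' (algebraMap R Q)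
    haveI : IsScalarTower R Q P' := IsScalarTower.of_algebraMap_eq (fun _ => rfl)
    funext y
    exact extFun_nat hj lam φ y

theorem Ext_toFun' (lam : X →ₚₗ[R] E) (P : Type u) [CommSemiring P] [iR : Algebra R P]
    [Algebra Q P] [iT : IsScalarTower R Q P] (y : P ⊗[Q] Y) :
    (Ext hj lam).toFun' P y = extFun hj lam P y := by
  have h : iR = Algebra.compHom P (algebraMap R Q) :=
    Algebra.algebra_ext _ _ (fun r => IsScalarTower.algebraMap_apply R Q P r)
  subst h
  rfl

end extfun

end Groth.Agent.H68.NB
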