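import Groth.Agent.H68.NormBC.Normic

/-!
# Base change of a universal normic pair
-/

set_option autoImplicit false
universe u

open scoped TensorProduct

namespace Groth.Agent.H68.NB

section general

variable {A : Type u} [CommRing A] {M N N' N'' : Type u} [AddCommGroup M] [Module A M]
  [AddCommGroup N] [Module A N] [AddCommGroup N'] [Module A N'] [AddCommGroup N''] [Module A N'']

theorem postcomp_postcomp (g : N' →ₗ[A] N'') (h : N →ₗ[A] N') (F : M →ₚₗ[A] N) :
    PolLaw.postcomp g (PolLaw.postcomp h F) = PolLaw.postcomp (g ∘ₗ h) F := by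
  apply PolynomialLaw.ext
  funext S _ _ x
  rw [postcomp_toFun', postcomp_toFun', postcomp_toFun', LinearMap.lTensor_comp,
    LinearMap.comp_apply]

theorem postcomp_id' (F : M →ₚₗ[A] N) : PolLaw.postcomp LinearMap.id F = F := by
  apply PolynomialLaw.ext
  funext S _ _ x
  rw [postcomp_toFun', LinearMap.lTensor_id, LinearMap.id_apply]

theorem lTensor_smul' (g : N →ₗ[A] N') (S : Type u) [CommSemiring S] [Algebra A S] (s : S)
    (w : S ⊗[A] N) : g.lTensor S (s • w) = s • g.lTensor S w := by
  induction w using TensorProduct.induction_on with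
  | zero => simp
  | tmul p e => simp [TensorProduct.smul_tmul']
  | add w w' hw hw' => simp only [smul_add, map_add, hw, hw']

end general

section normicPost

variable {R R' : Type u} [CommRing R] [CommRing R'] [Algebra R R']
  {M' : Type u} [AddCommGroup M'] [Module R M'] [Module R' M'] [IsScalarTower R R' M']
  {E E' : Type u} [AddCommGroup E] [Module R E] [AddCommGroup E'] [Module R E']

theorem isNormic_postcomp (g : E →ₗ[R] E') (ν : M' →ₚₗ[R] E) (hν : PolLaw.IsNormic R' ν) :
    PolLaw.IsNormic R' (PolLaw.postcomp g ν) := by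
  intro P _ _ x m
  rw [postcomp_toFun', postcomp_toFun', hν P, lTensor_smul']

end normicPost

section main

variable {R R' Q Q' : Type u} [CommRing R] [CommRing R'] [Algebra R R']
  [CommRing Q] [Algebra R Q] [CommRing Q'] [Algebra R Q'] [Algebra Q Q'] [Algebra R' Q']
  [IsScalarTower R Q Q'] [IsScalarTower R R' Q'] [Algebra.IsPushout R R' Q Q']
  {M' : Type u} [AddCommGroup M'] [Module R M'] [Module R' M'] [IsScalarTower R R' M']
  {M'' : Type u} [AddCommGroup M''] [Module R M''] [Module R' M''] [Module Q M'']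
  [Module Q' M''] [IsScalarTower R R' M''] [IsScalarTower R Q M''] [IsScalarTower R' Q' M'']
  [IsScalarTower Q Q' M'']

theorem cEquiv_eq_bcAlong {X Y : Type u} [AddCommGroup X] [Module R X] [AddCommGroup Y]
    [Module R Y] [Module Q Y] [IsScalarTower R Q Y] {j : X →ₗ[R] Y} (hj : IsBaseChange Q j)
    (P : Type u) [CommRing P] [Algebra R P] [Algebra Q P] [IsScalarTower R Q P] (z : P ⊗[R] X) :
    cEquiv hj P z = PolLaw.bcAlong j P z := by
  induction z using TensorProduct.induction_on with
  | zero => simp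
  | tmul p x => simp [bcAlong_tmul]
  | add z z' hz hz' => simp only [map_add, hz, hz']

theorem dMap_lTensor {N N'' : Type u} [AddCommGroup N] [Module R N] [AddCommGroup N'']
    [Module R N''] [Module Q N''] [IsScalarTower R Q N''] (u : N →ₗ[R] N'')
    (P : Type u) [CommRing P] [Algebra R P] [Algebra Q P] [IsScalarTower R Q P] (w : P ⊗[R] N) :
    dMap (Q := Q) N'' P (u.lTensor P w) = PolLaw.bcAlong u P w := by
  induction w using TensorProduct.induction_on with
  | zero => simp
  | tmul p x => simp [bcAlong_tmul]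
  | add z z' hz hz' => simp only [map_add, hz, hz']

/-- **Base change of a universal normic pair.** -/
theorem exists_isBaseChange_of_isUnivNormic [Module.Free R R'] [Module.Finite R R']
    (f : M' →ₗ[R'] M'') (hf : IsBaseChange Q' f)
    {N : Type u} [AddCommGroup N] [Module R N] (ν : M' →ₚₗ[R] N) (hν : PolLaw.IsUnivNormic R' ν)
    {N'' : Type u} [AddCommGroup N''] [Module R N''] [Module Q N''] [IsScalarTower R Q N'']
    (ν'' : M'' →ₚₗ[Q] N'') (hν'' : PolLaw.IsUnivNormic (R := Q) Q' ν'') :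
    ∃ u : N →ₗ[R] N'',
      (∀ (P : Type u) [CommRing P] [Algebra R P] [Algebra Q P] [IsScalarTower R Q P]
        (m : P ⊗[R] M'),
          ν''.toFun' P (PolLaw.bcAlong (f.restrictScalars R) P m) =
            PolLaw.bcAlong u P (ν.toFun' P m)) ∧
      IsBaseChange Q u := by
  set j : M' →ₗ[R] M'' := f.restrictScalars R with hjdef
  have hj : IsBaseChange Q j := isBaseChange_restrictScalars (R := R) (Q := Q) hf
  -- the map `u`
  have hnR : PolLaw.IsNormic R' (Res j ν'') := isNormic_Res hf ν'' hν''.1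
  obtain ⟨u, hu, -⟩ := hν.2 N'' (Res j ν'') hnR
  have hu' : PolLaw.postcomp u ν = Res j ν'' := hu
  refine ⟨u, ?_, ?_⟩
  · intro P _ _ _ _ m
    have h1 := congrArg (fun F : M' →ₚₗ[R] N'' => dMap (Q := Q) N'' P (F.toFun' P m)) hu'
    beta_reduce at h1
    rw [postcomp_toFun', dMap_lTensor, Res_toFun', dMap_bMap, PolynomialLaw.isCompat_apply',
      mulMap_aMap hj, cEquiv_eq_bcAlong] at h1
    exact h1.symm
  · -- the inverse
    let ι₀ : N →ₗ[R] Q ⊗[R] N := TensorProduct.mk R Q N 1
    have hn1 : PolLaw.IsNormic R' (PolLaw.postcomp ι₀ ν) := isNormic_postcomp ι₀ ν hν.1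
    have hn2 : PolLaw.IsNormic (R := Q) Q' (Ext hj (PolLaw.postcomp ι₀ ν)) :=
      isNormic_Ext hf _ hn1
    obtain ⟨w, hw, -⟩ := hν''.2 (Q ⊗[R] N) (Ext hj (PolLaw.postcomp ι₀ ν)) hn2
    have hw' : PolLaw.postcomp w ν'' = Ext hj (PolLaw.postcomp ι₀ ν) := hw
    let ubar : Q ⊗[R] N →ₗ[Q] N'' := u.liftBaseChange Q
    have hubar : (ubar.restrictScalars R) ∘ₗ ι₀ = u := by
      ext n
      simp [ubar, ι₀]
    -- `w ∘ u = ι₀`
    have h1 : (w.restrictScalars R) ∘ₗ u = ι₀ := by
      obtain ⟨φ, -, hφ⟩ := hν.2 (Q ⊗[R] N) (PolLaw.postcomp ι₀ ν) hn1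
      have e1 : (w.restrictScalars R) ∘ₗ u = φ := by
        apply hφ
        show PolLaw.postcomp ((w.restrictScalars R) ∘ₗ u) ν = PolLaw.postcomp ι₀ ν
        rw [← postcomp_postcomp, hu', ← Res_postcomp, hw', Res_Ext]
      have e2 : ι₀ = φ := hφ ι₀ rfl
      rw [e1, e2]
    -- `ubar ∘ w = id`
    have h2 : ubar ∘ₗ w = LinearMap.id := by
      obtain ⟨φ, -, hφ⟩ := hν''.2 N'' ν'' hν''.1
      have e1 : ubar ∘ₗ w = φ := by
        apply hφ
        show PolLaw.postcomp (ubar ∘ₗ w) ν'' = ν''
        rw [← postcomp_postcomp, hw']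
        conv_lhs => rw [← Ext_Res hj (PolLaw.postcomp ubar (Ext hj (PolLaw.postcomp ι₀ ν)))]
        rw [Res_postcomp, Res_Ext, postcomp_postcomp, hubar, hu', Ext_Res]
      have e2 : LinearMap.id = φ := hφ LinearMap.id (postcomp_id' ν'')
      rw [e1, e2]
    have h3 : w ∘ₗ ubar = LinearMap.id := by
      apply TensorProduct.AlgebraTensorModule.curry_injective
      ext n
      have := congrArg (fun g : N →ₗ[R] Q ⊗[R] N => g n) h1
      simpa [ubar, ι₀] using this
    let e : Q ⊗[R] N ≃ₗ[Q] N'' := LinearEquiv.ofLinear ubar w h2 h3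
    refine IsBaseChange.of_equiv e (fun n => ?_)
    simp [e, ubar]

end main

end Groth.Agent.H68.NB
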