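import Mathlib
import Groth.Prelude.Def_W4c5normfunctorschNorm

/-!
# Linear maps used for restriction and extension of scalars of polynomial laws
-/

set_option autoImplicit false
universe u

open scoped TensorProduct

namespace Groth.Agent.H68.NB

variable {R : Type u} [CommRing R] {Q : Type u} [CommRing Q] [Algebra R Q]
  {X : Type u} [AddCommGroup X] [Module R X]
  {Y : Type u} [AddCommGroup Y] [Module R Y] [Module Q Y] [IsScalarTower R Q Y]
  {E : Type u} [AddCommGroup E] [Module R E] [Module Q E] [IsScalarTower R Q E]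

section bc

variable (j : X →ₗ[R] Y) (P : Type u) [CommRing P] [Algebra R P] [Algebra Q P]
  [IsScalarTower R Q P]

theorem bcAlong_tmul (p : P) (x : X) :
    PolLaw.bcAlong j P (p ⊗ₜ[R] x) = p ⊗ₜ[Q] j x := by
  simp [PolLaw.bcAlong]

end bc

section amap

variable (j : X →ₗ[R] Y) (P : Type u) [CommSemiring P] [Algebra R P]

/-- `p ⊗ x ↦ (1 ⊗ p) ⊗ j x`. -/
noncomputable def aMap : P ⊗[R] X →ₗ[R] (Q ⊗[R] P) ⊗[Q] Y :=
  (PolLaw.bcAlong j (Q ⊗[R] P)).restrictScalars R ∘ₗ
    (Algebra.TensorProduct.includeRight : P →ₐ[R] Q ⊗[R] P).toLinearMap.rTensor X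

@[simp]
theorem aMap_tmul (p : P) (x : X) :
    aMap (Q := Q) j P (p ⊗ₜ[R] x) = ((1 : Q) ⊗ₜ[R] p) ⊗ₜ[Q] j x := by
  simp [aMap, bcAlong_tmul]

variable (E)

/-- `(q ⊗ p) ⊗ e ↦ p ⊗ q • e`. -/
noncomputable def bMap : (Q ⊗[R] P) ⊗[Q] E →ₗ[R] P ⊗[R] E :=
  (TensorProduct.comm R E P).toLinearMap ∘ₗ
    ((TensorProduct.AlgebraTensorModule.cancelBaseChange R Q Q E P).toLinearMap.restrictScalars R) ∘ₗ
      ((TensorProduct.comm Q (Q ⊗[R] P) E).toLinearMap.restrictScalars R)

@[simp]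
theorem bMap_tmul (q : Q) (p : P) (e : E) :
    bMap (Q := Q) E P ((q ⊗ₜ[R] p) ⊗ₜ[Q] e) = p ⊗ₜ[R] (q • e) := by
  simp [bMap]

end amap

section nat

variable (j : X →ₗ[R] Y) {P P' : Type u} [CommSemiring P] [Algebra R P] [CommSemiring P']
  [Algebra R P'] (φ : P →ₐ[R] P')

/-- `id ⊗ φ : Q ⊗ P → Q ⊗ P'` as a `Q`-algebra map. -/
noncomputable def tmap : Q ⊗[R] P →ₐ[Q] Q ⊗[R] P' :=
  Algebra.TensorProduct.map (AlgHom.id Q Q) φ

@[simp]
theorem tmap_tmul (q : Q) (p : P) : tmap (Q := Q) φ (q ⊗ₜ[R] p) = q ⊗ₜ[R] φ p := by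
  simp [tmap]

theorem aMap_nat (z : P ⊗[R] X) :
    aMap (Q := Q) j P' (φ.toLinearMap.rTensor X z) =
      (tmap (Q := Q) φ).toLinearMap.rTensor Y (aMap (Q := Q) j P z) := by
  induction z using TensorProduct.induction_on with
  | zero => simp
  | tmul p x => simp
  | add z z' hz hz' => simp only [map_add, hz, hz']

variable (E)

theorem bMap_nat (w : (Q ⊗[R] P) ⊗[Q] E) :
    bMap (Q := Q) E P' ((tmap (Q := Q) φ).toLinearMap.rTensor E w) =
      φ.toLinearMap.rTensor E (bMap (Q := Q) E P w) := by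
  induction w using TensorProduct.induction_on with
  | zero => simp
  | tmul t e =>
    induction t using TensorProduct.induction_on with
    | zero => simp
    | tmul q p => simp
    | add t t' ht ht' => simp only [TensorProduct.add_tmul, map_add, ht, ht']
  | add w w' hw hw' => simp only [map_add, hw, hw']

end nat

end Groth.Agent.H68.NB
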