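import Groth.Agent.H68.NormBC.ResExt

/-!
# Restriction and extension of scalars preserve normic laws
-/

set_option autoImplicit false
universe u

open scoped TensorProduct

namespace Groth.Agent.H68.NB

variable {R R' Q Q' : Type u} [CommRing R] [CommRing R'] [Algebra R R']
  [CommRing Q] [Algebra R Q] [CommRing Q'] [Algebra R Q'] [Algebra Q Q'] [Algebra R' Q']
  [IsScalarTower R Q Q'] [IsScalarTower R R' Q'] [Algebra.IsPushout R R' Q Q']
  {M' : Type u} [AddCommGroup M'] [Module R M'] [Module R' M'] [IsScalarTower R R' M']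
  {M'' : Type u} [AddCommGroup M''] [Module R M''] [Module R' M''] [Module Q M'']
  [Module Q' M''] [IsScalarTower R R' M''] [IsScalarTower R Q M''] [IsScalarTower R' Q' M'']
  [IsScalarTower Q Q' M'']

variable (R R' Q') in
/-- The map `R' → Q'` as an `R`-linear map. -/
noncomputable abbrev rho : R' →ₗ[R] Q' := (IsScalarTower.toAlgHom R R' Q').toLinearMap

variable (R R' Q Q') in
theorem isBaseChange_rho : IsBaseChange Q (rho R R' Q') :=
  (Algebra.IsPushout.symm (inferInstance : Algebra.IsPushout R R' Q Q')).out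

theorem isBaseChange_restrictScalars {f : M' →ₗ[R'] M''} (hf : IsBaseChange Q' f) :
    IsBaseChange Q (f.restrictScalars R) := by
  have hpush : Algebra.IsPushout R Q R' Q' := Algebra.IsPushout.symm inferInstance
  let e : Q ⊗[R] M' ≃ₗ[Q] M'' :=
    (Algebra.IsPushout.cancelBaseChange R Q R' Q' M').symm ≪≫ₗ (hf.equiv.restrictScalars Q)
  refine IsBaseChange.of_equiv e (fun x => ?_)
  simp [e, IsBaseChange.equiv_tmul]

section act

variable {f : M' →ₗ[R'] M''} (hf : IsBaseChange Q' f)
  (P : Type u) [CommSemiring P] [Algebra R P] [Algebra Q P] [IsScalarTower R Q P]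

theorem cEquiv_actEnd (x : P ⊗[R] R') (m : P ⊗[R] M') :
    cEquiv (isBaseChange_restrictScalars hf) P (PolLaw.actEnd M' P x m) =
      PolLaw.actEnd M'' P (cEquiv (isBaseChange_rho R R' Q Q') P x)
        (cEquiv (isBaseChange_restrictScalars hf) P m) := by
  induction x using TensorProduct.induction_on with
  | zero => simp
  | tmul s r' =>
    induction m using TensorProduct.induction_on with
    | zero => simp
    | tmul t m₀ => simp
    | add m m' hm hm' => simp only [map_add, hm, hm']
  | add x x' hx hx' => simp only [map_add, LinearMap.add_apply, hx, hx']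

end act

section norm

variable (P : Type u) [CommRing P] [Algebra R P] [Algebra Q P] [IsScalarTower R Q P]

variable (R R' Q Q') in
/-- `P ⊗[R] R' ≃ P ⊗[Q] Q'` as `P`-algebras. -/
noncomputable def cAlg : P ⊗[R] R' ≃ₐ[P] P ⊗[Q] Q' :=
  haveI : Algebra.IsPushout R Q R' Q' := Algebra.IsPushout.symm inferInstance
  (Algebra.TensorProduct.cancelBaseChange R Q P P R').symm.trans
    (Algebra.TensorProduct.congr AlgEquiv.refl (Algebra.IsPushout.equiv R Q R' Q'))

theorem cAlg_apply (x : P ⊗[R] R') :
    cAlg R R' Q Q' P x = cEquiv (isBaseChange_rho R R' Q Q') P x := by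
  induction x using TensorProduct.induction_on with
  | zero => simp
  | tmul p r' => simp [cAlg, Algebra.IsPushout.equiv_tmul]
  | add x x' hx hx' => simp only [map_add, hx, hx']

theorem norm_cEquiv (x : P ⊗[R] R') :
    Algebra.norm P (cEquiv (isBaseChange_rho R R' Q Q') P x) = Algebra.norm P x := by
  rw [← cAlg_apply, Algebra.norm_eq_of_algEquiv]

end norm

section normicExt

variable {E : Type u} [AddCommGroup E] [Module R E] [Module Q E] [IsScalarTower R Q E]

theorem dMap_smul (P : Type u) [CommSemiring P] [Algebra R P] [Algebra Q P] [IsScalarTower R Q P]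
    (n : P) (w : P ⊗[R] E) : dMap (Q := Q) E P (n • w) = n • dMap (Q := Q) E P w := by
  induction w using TensorProduct.induction_on with
  | zero => simp
  | tmul p e => simp [TensorProduct.smul_tmul']
  | add w w' hw hw' => simp only [smul_add, map_add, hw, hw']

theorem isNormic_Ext {f : M' →ₗ[R'] M''} (hf : IsBaseChange Q' f) (lam : M' →ₚₗ[R] E)
    (hlam : PolLaw.IsNormic R' lam) :
    PolLaw.IsNormic (R := Q) Q' (Ext (isBaseChange_restrictScalars hf) lam) := by
  intro P _ _ x'' m''
  letI : Algebra R P := Algebra.compHom P (algebraMap R Q)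
  haveI : IsScalarTower R Q P := IsScalarTower.of_algebraMap_eq (fun _ => rfl)
  rw [Ext_toFun', Ext_toFun']
  unfold extFun
  set c := cEquiv (isBaseChange_restrictScalars (R := R) (Q := Q) hf) P with hc
  set c' := cEquiv (isBaseChange_rho R R' Q Q') P with hc'
  have h1 : c.symm (PolLaw.actEnd M'' P x'' m'') =
      PolLaw.actEnd M' P (c'.symm x'') (c.symm m'') := by
    rw [LinearEquiv.symm_apply_eq, hc, cEquiv_actEnd hf P, ← hc, ← hc',
      LinearEquiv.apply_symm_apply, LinearEquiv.apply_symm_apply]
  rw [h1, hlam P, dMap_smul]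
  congr 1
  rw [← norm_cEquiv (Q := Q) (Q' := Q') P (c'.symm x''), ← hc', LinearEquiv.apply_symm_apply]

end normicExt

section normicRes

variable {E : Type u} [AddCommGroup E] [Module R E] [Module Q E] [IsScalarTower R Q E]

theorem bMap_smul (P : Type u) [CommSemiring P] [Algebra R P] (n : P)
    (w : (Q ⊗[R] P) ⊗[Q] E) :
    bMap (Q := Q) E P (((1 : Q) ⊗ₜ[R] n) • w) = n • bMap (Q := Q) E P w := by
  induction w using TensorProduct.induction_on with
  | zero => simp
  | tmul t e =>
    induction t using TensorProduct.induction_on with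
    | zero => simp
    | tmul q p => simp [TensorProduct.smul_tmul']
    | add t t' ht ht' => simp only [TensorProduct.add_tmul, smul_add, map_add, ht, ht']
  | add w w' hw hw' => simp only [smul_add, map_add, hw, hw']

theorem norm_includeRight [Module.Free R R'] [Module.Finite R R'] (P : Type u) [CommRing P]
    [Algebra R P] (x : P ⊗[R] R') :
    Algebra.norm (Q ⊗[R] P)
      ((Algebra.TensorProduct.includeRight : P →ₐ[R] Q ⊗[R] P).toLinearMap.rTensor R' x) =
      (1 : Q) ⊗ₜ[R] Algebra.norm P x := by
  rw [PolLaw.rTensor_algHom_apply, ← PolLaw.detAct_self, PolLaw.detAct_map, PolLaw.detAct_self]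
  rfl

theorem isNormic_Res [Module.Free R R'] [Module.Finite R R'] {f : M' →ₗ[R'] M''}
    (hf : IsBaseChange Q' f) (μ : M'' →ₚₗ[Q] E) (hμ : PolLaw.IsNormic (R := Q) Q' μ) :
    PolLaw.IsNormic R' (Res (f.restrictScalars R) μ) := by
  intro P _ _ x m
  rw [Res_toFun', Res_toFun']
  have hj := isBaseChange_restrictScalars (R := R) (Q := Q) hf
  rw [← cEquiv_includeRight hj P, ← cEquiv_includeRight hj P, PolLaw.rTensor_actEnd,
    cEquiv_actEnd hf (Q ⊗[R] P), hμ (Q ⊗[R] P), norm_cEquiv (Q := Q) (Q' := Q') (Q ⊗[R] P),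
    ← PolLaw.rTensor_algHom_apply, norm_includeRight, bMap_smul]

end normicRes

end Groth.Agent.H68.NB
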