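import Groth.Agent.H68.NormBC.Maps

/-!
# Restriction of scalars of a polynomial law
-/

set_option autoImplicit false
universe u

open scoped TensorProduct

namespace Groth.Agent.H68.NB

variable {R : Type u} [CommRing R] {Q : Type u} [CommRing Q] [Algebra R Q]
  {X : Type u} [AddCommGroup X] [Module R X]
  {Y : Type u} [AddCommGroup Y] [Module R Y] [Module Q Y] [IsScalarTower R Q Y]
  {E : Type u} [AddCommGroup E] [Module R E] [Module Q E] [IsScalarTower R Q E]

/-- Restriction of a polynomial law over `Q` on `Y` to a polynomial law over `R` on `X`, along an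
`R`-linear map `j : X → Y`: on the `R`-algebra `P` it is the value of the law on `Q ⊗ P`. -/
noncomputable def Res (j : X →ₗ[R] Y) (μ : Y →ₚₗ[Q] E) : X →ₚₗ[R] E where
  toFun' P _ _ := fun z => bMap (Q := Q) E P (μ.toFun' (Q ⊗[R] P) (aMap (Q := Q) j P z))
  isCompat' φ := by
    funext z
    simp only [Function.comp_apply]
    rw [aMap_nat, ← PolynomialLaw.isCompat_apply', bMap_nat]

theorem Res_toFun' (j : X →ₗ[R] Y) (μ : Y →ₚₗ[Q] E) (P : Type u) [CommSemiring P] [Algebra R P]
    (z : P ⊗[R] X) :
    (Res j μ).toFun' P z = bMap (Q := Q) E P (μ.toFun' (Q ⊗[R] P) (aMap (Q := Q) j P z)) := rfl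

section postcomp

variable {E' : Type u} [AddCommGroup E'] [Module R E'] [Module Q E'] [IsScalarTower R Q E']

theorem postcomp_toFun' {A : Type u} [CommRing A] {M N N' : Type u} [AddCommGroup M] [Module A M]
    [AddCommGroup N] [Module A N] [AddCommGroup N'] [Module A N'] (g : N →ₗ[A] N')
    (F : M →ₚₗ[A] N) (S : Type u) [CommSemiring S] [Algebra A S] (x : S ⊗[A] M) :
    (PolLaw.postcomp g F).toFun' S x = g.lTensor S (F.toFun' S x) := rfl

theorem bMap_lTensor (g : E →ₗ[Q] E') (P : Type u) [CommSemiring P] [Algebra R P]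
    (w : (Q ⊗[R] P) ⊗[Q] E) :
    bMap (Q := Q) E' P (g.lTensor (Q ⊗[R] P) w) =
      (g.restrictScalars R).lTensor P (bMap (Q := Q) E P w) := by
  induction w using TensorProduct.induction_on with
  | zero => simp
  | tmul t e =>
    induction t using TensorProduct.induction_on with
    | zero => simp
    | tmul q p => simp
    | add t t' ht ht' => simp only [TensorProduct.add_tmul, map_add, ht, ht']
  | add w w' hw hw' => simp only [map_add, hw, hw']

theorem Res_postcomp (j : X →ₗ[R] Y) (g : E →ₗ[Q] E') (μ : Y →ₚₗ[Q] E) :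
    Res j (PolLaw.postcomp g μ) = PolLaw.postcomp (g.restrictScalars R) (Res j μ) := by
  apply PolynomialLaw.ext
  funext P _ _ z
  rw [Res_toFun', postcomp_toFun', postcomp_toFun', Res_toFun', bMap_lTensor]

end postcomp

end Groth.Agent.H68.NB
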