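import Groth.Agent.H68.NormBC.Ext

/-!
# Restriction and extension of scalars of polynomial laws are mutually inverse
-/

set_option autoImplicit false
universe u

open scoped TensorProduct

namespace Groth.Agent.H68.NB

variable {R : Type u} [CommRing R] {Q : Type u} [CommRing Q] [Algebra R Q]
  {X : Type u} [AddCommGroup X] [Module R X]
  {Y : Type u} [AddCommGroup Y] [Module R Y] [Module Q Y] [IsScalarTower R Q Y]
  {E : Type u} [AddCommGroup E] [Module R E] [Module Q E] [IsScalarTower R Q E]
  {j : X →ₗ[R] Y} (hj : IsBaseChange Q j)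

section resext

variable (P : Type u) [CommSemiring P] [Algebra R P]

theorem cEquiv_includeRight (z : P ⊗[R] X) :
    cEquiv hj (Q ⊗[R] P)
      ((Algebra.TensorProduct.includeRight : P →ₐ[R] Q ⊗[R] P).toLinearMap.rTensor X z) =
      aMap (Q := Q) j P z := by
  induction z using TensorProduct.induction_on with
  | zero => simp
  | tmul p x => simp
  | add z z' hz hz' => simp only [map_add, hz, hz']

variable (E) in
theorem bMap_dMap_includeRight (w : P ⊗[R] E) :
    bMap (Q := Q) E P (dMap (Q := Q) E (Q ⊗[R] P)
      ((Algebra.TensorProduct.includeRight : P →ₐ[R] Q ⊗[R] P).toLinearMap.rTensor E w)) = w := by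
  induction w using TensorProduct.induction_on with
  | zero => simp
  | tmul p e => simp
  | add z z' hz hz' => simp only [map_add, hz, hz']

theorem Res_Ext (lam : X →ₚₗ[R] E) : Res j (Ext hj lam) = lam := by
  apply PolynomialLaw.ext
  funext P _ _ z
  rw [Res_toFun', Ext_toFun']
  unfold extFun
  rw [← cEquiv_includeRight hj P z, LinearEquiv.symm_apply_apply,
    ← PolynomialLaw.isCompat_apply', bMap_dMap_includeRight]

end resext

section extres

variable (P : Type u) [CommSemiring P] [Algebra R P] [Algebra Q P] [IsScalarTower R Q P]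

/-- The multiplication map `Q ⊗ P → P` as a `Q`-algebra map. -/
noncomputable def mulMap : Q ⊗[R] P →ₐ[Q] P :=
  Algebra.TensorProduct.lift (Algebra.ofId Q P) (AlgHom.id R P) (fun _ _ => Commute.all _ _)

@[simp]
theorem mulMap_tmul (q : Q) (p : P) : mulMap (R := R) P (q ⊗ₜ[R] p) = q • p := by
  simp [mulMap, Algebra.smul_def]

variable (E) in
theorem dMap_bMap (w : (Q ⊗[R] P) ⊗[Q] E) :
    dMap (Q := Q) E P (bMap (Q := Q) E P w) = (mulMap (R := R) P).toLinearMap.rTensor E w := by
  induction w using TensorProduct.induction_on with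
  | zero => simp
  | tmul t e =>
    induction t using TensorProduct.induction_on with
    | zero => simp
    | tmul q p => simp [TensorProduct.smul_tmul]
    | add t t' ht ht' => simp only [TensorProduct.add_tmul, map_add, ht, ht']
  | add w w' hw hw' => simp only [map_add, hw, hw']

theorem mulMap_aMap (z : P ⊗[R] X) :
    (mulMap (R := R) P).toLinearMap.rTensor Y (aMap (Q := Q) j P z) = cEquiv hj P z := by
  induction z using TensorProduct.induction_on with
  | zero => simp
  | tmul p x => simp
  | add z z' hz hz' => simp only [map_add, hz, hz']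

theorem extFun_Res (μ : Y →ₚₗ[Q] E) (y : P ⊗[Q] Y) :
    extFun hj (Res j μ) P y = μ.toFun' P y := by
  unfold extFun
  rw [Res_toFun', dMap_bMap, PolynomialLaw.isCompat_apply', mulMap_aMap hj,
    LinearEquiv.apply_symm_apply]

end extres

theorem Ext_Res (μ : Y →ₚₗ[Q] E) : Ext hj (Res j μ) = μ := by
  apply PolynomialLaw.ext
  funext P _ _ y
  letI : Algebra R P := Algebra.compHom P (algebraMap R Q)
  haveI : IsScalarTower R Q P := IsScalarTower.of_algebraMap_eq (fun _ => rfl)
  rw [Ext_toFun', extFun_Res]

end Groth.Agent.H68.NB
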